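import Cfsg.Agent.Screen.CosetEnum.Core

/-!
# Rows of the certificate
-/

set_option autoImplicit false
set_option maxRecDepth 20000

namespace Cfsg.Agent.Screen.CosetEnum.HeOrd.HeX

open Cfsg.Agent.Screen.CosetEnum

def rowTree0 : Tr :=
  (.leaf 0x728000000072c000000072b000000072a00000006250000000623000000072900000)

/-- Packed table. -/
def rowTree : Tr := rowTree0

end Cfsg.Agent.Screen.CosetEnum.HeOrd.HeX
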